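import Cfsg.Agent.H198.TriDia
import Cfsg.Agent.H198.TwComp
import Cfsg.Agent.LieClassical.OrthFinite

/-!
# S3510, triality part of `PΩ₈⁺(q)`, type iii, box ZN4 (helper65)

`ZN4` : for `|F| = q0 ^ 3` an automorphism `c ∈ AutD (fG s)` of odd prime order `l` dividing `q0 ^ 2 + 1` is trivial.

* `no_fix` : a twisted symmetric composition over a field with the `l`-th roots of unity, fixed by `σ`, has no
  automorphism `f` with `f ^ l = 1` and `ker (f - 1) = 0`;
* `tcd` : `dia (fG s)` is a twisted symmetric composition;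
* `no_fix8` : base change to the extension of degree four.
-/

set_option autoImplicit false

namespace Cfsg.Agent.H65.RC

open Module QuadraticMap Cfsg.Agent.LieClassical.OrthCore Cfsg.Agent.LieClassical.OrthTrans
  Cfsg.Agent.LieClassical.OrthSimple
  Cfsg.Agent.LieClassical.OrthFinite
  Cfsg.Agent.ClassicalGeometry.OrthAut1
  Cfsg.Agent.ClassicalGeometry.OrthSemi
  Cfsg.Agent.LieClassical.QuadForms
  Cfsg.Agent.ClassicalGeometry.TrialityOct Cfsg.Agent.ClassicalGeometry.Triality
  Cfsg.Agent.ClassicalGeometry.TrialitySpaces Cfsg.Agent.H198.TriBase Cfsg.Agent.H198.TriAut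
  Cfsg.Agent.H198.TriDia Cfsg.Agent.H198.TwComp

/-! ### Arithmetic -/

theorem four_dvd {q0 l d : ℕ} (hl : l.Prime) (hl2 : l ≠ 2) (h1 : l ∣ q0 ^ 2 + 1)
    (hd : (q0 : ZMod l) ^ d = 1) : 4 ∣ d := by
  have : Fact l.Prime := ⟨hl⟩
  have : Fact (2 < l) := ⟨lt_of_le_of_ne hl.two_le (Ne.symm hl2)⟩
  have h2 : (q0 : ZMod l) ^ 2 = -1 := by
    have h3 : ((q0 ^ 2 + 1 : ℕ) : ZMod l) = 0 := (ZMod.natCast_eq_zero_iff _ _).2 h1
    push_cast at h3
    exact eq_neg_of_add_eq_zero_left h3
  have h4 : orderOf (q0 : ZMod l) = 2 ^ (1 + 1) := by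
    have : Fact (Nat.Prime 2) := ⟨Nat.prime_two⟩
    apply orderOf_eq_prime_pow
    · rw [pow_one, h2]
      exact ZMod.neg_one_ne_one
    · rw [pow_succ, pow_one, pow_mul, h2]
      ring
  have h5 := orderOf_dvd_of_pow_eq_one hd
  rwa [h4] at h5

theorem ne_three {q0 l : ℕ} (h1 : l ∣ q0 ^ 2 + 1) : l ≠ 3 := by
  rintro rfl
  have h2 : (q0 ^ 2 + 1) % 3 = 0 := Nat.mod_eq_zero_of_dvd h1
  have h3 : q0 % 3 = 0 ∨ q0 % 3 = 1 ∨ q0 % 3 = 2 := by omega
  rcases h3 with h | h | h <;> simp [Nat.pow_mod, Nat.add_mod, h] at h2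

/-! ### Automorphisms without fixed vectors -/

section abs

variable {K V : Type*} [Field K] [AddCommGroup V] [Module K V] {Q : QuadraticForm K V} {σ : K ≃+* K} {m : V → V → V}
  {f : V →ₗ[K] V} {l : ℕ}

/-- The projection to an eigenspace, up to the factor `l`. -/
noncomputable def pr (f : V →ₗ[K] V) (l : ℕ) (k : K) (v : V) : V := ∑ t ∈ Finset.range l, k⁻¹ ^ t • (f ^ t) v

theorem pr_eig (hf : f ^ l = 1) {k : K} (hk : k ^ l = 1) (hl : l ≠ 0) (v : V) : f (pr f l k v) = k • pr f l k v := by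
  have hk0 : k ≠ 0 := by
    rintro rfl
    rw [zero_pow hl] at hk
    exact zero_ne_one hk
  have h1 : ∀ t, f (k⁻¹ ^ t • (f ^ t) v) = k • (k⁻¹ ^ (t + 1) • (f ^ (t + 1)) v) := by
    intro t
    rw [map_smul, smul_smul, pow_succ' k⁻¹ t, ← mul_assoc, mul_inv_cancel₀ hk0, one_mul, pow_succ' f t]
    rfl
  have h2 : ∑ t ∈ Finset.range l, k⁻¹ ^ (t + 1) • (f ^ (t + 1)) v = pr f l k v := by
    have h3 := Finset.sum_range_succ (fun t => k⁻¹ ^ t • (f ^ t) v) l
    rw [Finset.sum_range_succ'] at h3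
    have h4 : k⁻¹ ^ l • (f ^ l) v = k⁻¹ ^ 0 • (f ^ 0) v := by rw [inv_pow, hk, hf, inv_one, pow_zero, pow_zero]
    rw [h4] at h3
    exact add_right_cancel h3
  unfold pr at h2 ⊢
  rw [map_sum, Finset.sum_congr rfl (fun t _ => h1 t), ← Finset.smul_sum, h2]

theorem sum_pr {z : K} (hz : IsPrimitiveRoot z l) (hl : l ≠ 0) (v : V) :
    ∑ j ∈ Finset.range l, pr f l (z ^ j) v = (l : K) • v := by
  unfold pr
  rw [Finset.sum_comm]
  have h1 : ∀ t ∈ Finset.range l, ∑ j ∈ Finset.range l, (z ^ j)⁻¹ ^ t • (f ^ t) v =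
      if t = 0 then (l : K) • v else 0 := by
    intro t ht
    rw [← Finset.sum_smul]
    by_cases h0 : t = 0
    · subst h0
      simp
    · rw [if_neg h0]
      have h2 : ∑ j ∈ Finset.range l, (z ^ j)⁻¹ ^ t = ∑ j ∈ Finset.range l, (z⁻¹ ^ t) ^ j := by
        apply Finset.sum_congr rfl
        intro j _
        rw [← inv_pow, ← pow_mul, ← pow_mul, mul_comm]
      have h3 : z⁻¹ ^ t ≠ 1 := by
        intro h4
        rw [inv_pow, inv_eq_one] at h4
        have h5 := hz.dvd_of_pow_eq_one t h4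
        exact absurd (Nat.le_of_dvd (Nat.pos_of_ne_zero h0) h5) (not_le.2 (Finset.mem_range.1 ht))
      have h6 : ∑ j ∈ Finset.range l, (z⁻¹ ^ t) ^ j = 0 := by
        have h7 := geom_sum_mul (z⁻¹ ^ t) l
        have h8 : (z⁻¹ ^ t) ^ l = 1 := by
          rw [← pow_mul, mul_comm, pow_mul, inv_pow, hz.pow_eq_one, inv_one, one_pow]
        rw [h8, sub_self] at h7
        exact (mul_eq_zero.1 h7).resolve_right (sub_ne_zero.2 h3)
      rw [h2, h6, zero_smul]
  rw [Finset.sum_congr rfl h1, Finset.sum_ite_eq' (Finset.range l) 0]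
  rw [if_pos (Finset.mem_range.2 (Nat.pos_of_ne_zero hl))]

variable (h : TC Q σ m) (hmul : ∀ u w, f (m u w) = m (f u) (f w))

include h hmul in
theorem eig_mul {k n : K} (hk : σ k = k) (hn : σ n = n) {u w : V} (hu : f u = k • u) (hw : f w = n • w) :
    f (m u w) = (k * n) • m u w := by
  have hk' : σ.symm k = k := by rw [RingEquiv.symm_apply_eq, hk]
  rw [hmul, hu, hw, h.smul_left, h.smul_right, hk', hn, smul_smul]

/-- Twisted symmetric compositions have no automorphism of prime order `l ≠ 2, 3` without fixed vectors. -/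
theorem no_fix (hQ : Nondeg Q) (hl : l.Prime) (hl2 : l ≠ 2) (hl3 : l ≠ 3) (hlK : (l : K) ≠ 0)
    (h : TC Q σ m) (hmul : ∀ u w, f (m u w) = m (f u) (f w)) (hf : f ^ l = 1)
    {z : K} (hz : IsPrimitiveRoot z l) (hsz : σ z = z)
    (hfix : ∀ v, f v = v → v = 0) (v : V) : v = 0 := by
  by_contra hv
  have hs : ∀ j : ℕ, σ (z ^ j) = z ^ j := fun j => by rw [map_pow, hsz]
  have hzl : ∀ j : ℕ, (z ^ j) ^ l = 1 := fun j => by rw [← pow_mul, mul_comm, pow_mul, hz.pow_eq_one, one_pow]
  -- a nonzero vector has a nonzero projection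
  obtain ⟨j, hj⟩ : ∃ j, pr f l (z ^ j) v ≠ 0 := by
    by_contra hno
    push Not at hno
    have h1 := sum_pr (f := f) hz hl.ne_zero v
    rw [Finset.sum_eq_zero (fun j _ => hno j)] at h1
    exact (smul_ne_zero hlK hv) h1.symm
  -- `u ⋄ u ≠ 0` for eigenvectors
  have key : ∀ (i : ℕ) (u : V), u ≠ 0 → f u = z ^ i • u → m u u ≠ 0 := by
    intro i u hu0 hu h0
    obtain ⟨w, hw⟩ := hQ.exists_polar_ne hu0
    -- a projection of `w`
    obtain ⟨n, hn⟩ : ∃ n, polar Q u (pr f l (z ^ n) w) ≠ 0 := by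
      by_contra hno
      push Not at hno
      have h1 := sum_pr (f := f) hz hl.ne_zero w
      have h2 : polar Q u ((l : K) • w) = 0 := by
        rw [← h1]
        have h3 : ∀ s : Finset ℕ, polar Q u (∑ j ∈ s, pr f l (z ^ j) w) = 0 := by
          intro s
          induction s using Finset.induction_on with
          | empty => rw [Finset.sum_empty, polar_zero_right]
          | insert a s ha ih => rw [Finset.sum_insert ha, polar_add_right, hno, ih, zero_add]
        exact h3 _
      rw [polar_smul_right, smul_eq_mul] at h2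
      exact (mul_ne_zero hlK hw) h2
    set w' := pr f l (z ^ n) w with hw'
    have hfw : f w' = z ^ n • w' := pr_eig hf (hzl n) hl.ne_zero w
    -- lin1
    have e1 := h.lin1 u u w'
    rw [h0, h.zero_left, zero_add] at e1
    have e2 : f (m w' u) = (z ^ n * z ^ i) • m w' u := eig_mul h hmul (hs n) (hs i) hfw hu
    have e3 : f (m (m w' u) u) = ((z ^ n * z ^ i) * z ^ i) • m (m w' u) u :=
      eig_mul h hmul (by rw [map_mul, hs, hs]) (hs i) e2 hu
    have hne : σ (polar Q u w') • u ≠ 0 := smul_ne_zero (fun h5 => hn ((map_eq_zero σ).1 h5)) hu0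
    rw [e1, map_smul, hu, smul_comm] at e3
    have e4 : (z ^ i - z ^ n * z ^ i * z ^ i) • (σ (polar Q u w') • u) = 0 := by rw [sub_smul, e3, sub_self]
    have e5 := sub_eq_zero.1 ((smul_eq_zero.1 e4).resolve_right hne)
    have hz0 : z ≠ 0 := hz.ne_zero hl.ne_zero
    have e6 : z ^ n * z ^ i = 1 := by
      have e7 : (z ^ n * z ^ i) * z ^ i = 1 * z ^ i := by rw [one_mul, ← e5]
      exact mul_right_cancel₀ (pow_ne_zero i hz0) e7
    rw [e6, one_smul] at e2
    have e8 := hfix _ e2
    rw [e8, h.zero_left] at e1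
    exact hne e1.symm
  have hu := pr_eig hf (hzl j) hl.ne_zero v
  set u := pr f l (z ^ j) v with hudef
  have hj1 : z ^ j ≠ 1 := by
    intro h1
    rw [h1, one_smul] at hu
    exact hj (hfix _ hu)
  have hldj : ¬ l ∣ j := fun h1 => hj1 ((hz.pow_eq_one_iff_dvd j).2 h1)
  have hcop : ∀ n : ℕ, n.Prime → n ≠ l → z ^ (j * n) ≠ 1 := by
    intro n hn hnl h1
    have h2 := (hz.pow_eq_one_iff_dvd _).1 h1
    rcases (hl.dvd_mul).1 h2 with h3 | h3
    · exact hldj h3
    · exact hnl ((Nat.prime_dvd_prime_iff_eq hl hn).1 h3).symm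
  -- `Q u = 0`
  have huu : f (m u u) = (z ^ j * z ^ j) • m u u := eig_mul h hmul (hs j) (hs j) hu hu
  have hQu : Q u = 0 := by
    have e1 := h.left u u
    have e2 : f (m (m u u) u) = (z ^ j * z ^ j * z ^ j) • m (m u u) u :=
      eig_mul h hmul (by rw [map_mul, hs]) (hs j) huu hu
    rw [e1, map_smul, hu, smul_comm] at e2
    by_contra hQ0
    have hne : σ (Q u) • u ≠ 0 := smul_ne_zero (fun h5 => hQ0 ((map_eq_zero σ).1 h5)) hj
    have e4 : (z ^ j - z ^ j * z ^ j * z ^ j) • (σ (Q u) • u) = 0 := by rw [sub_smul, e2, sub_self]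
    have e5 := sub_eq_zero.1 ((smul_eq_zero.1 e4).resolve_right hne)
    have hz0 : z ≠ 0 := hz.ne_zero hl.ne_zero
    have e6 : z ^ (j * 2) = 1 := by
      have e7 : (z ^ j * z ^ j) * z ^ j = 1 * z ^ j := by rw [one_mul, ← e5]
      rw [pow_mul, pow_two]
      exact mul_right_cancel₀ (pow_ne_zero j hz0) e7
    exact hcop 2 Nat.prime_two (Ne.symm hl2) e6
  have h1 : m u u ≠ 0 := key j u hj hu
  have h2 : m (m u u) (m u u) ≠ 0 := key (j * 2) _ h1 (by rw [pow_mul, pow_two]; exact huu)
  obtain ⟨h3, -⟩ := h.sq_sq hQu hj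
  apply h2
  rw [h3]
  have e1 : f (m (m u u) (m u u)) = ((z ^ j * z ^ j) * (z ^ j * z ^ j)) • m (m u u) (m u u) :=
    eig_mul h hmul (by rw [map_mul, hs]) (by rw [map_mul, hs]) huu huu
  rw [h3] at h2
  rw [h3, map_smul, hu, smul_comm] at e1
  exfalso
  have e4 : (z ^ j - (z ^ j * z ^ j) * (z ^ j * z ^ j)) • (polar Q u (m u u) • u) = 0 := by
    rw [sub_smul, e1, sub_self]
  have e5 := sub_eq_zero.1 ((smul_eq_zero.1 e4).resolve_right h2)
  have hz0 : z ≠ 0 := hz.ne_zero hl.ne_zero
  have e6 : z ^ (j * 3) = 1 := by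
    have e7 : (z ^ j) ^ 3 * z ^ j = 1 * z ^ j := by
      rw [one_mul]
      nth_rw 3 [e5]
      ring
    rw [pow_mul]
    exact mul_right_cancel₀ (pow_ne_zero j hz0) e7
  exact hcop 3 Nat.prime_three (Ne.symm hl3) e6

end abs

/-! ### The twisted product -/

section tw

variable {F : Type} [Field F]

theorem dia_fG (s : F ≃+* F) (u w : V8 F) : dia (fG s) u w = omul (fP s.symm (oconj u)) (fP s (oconj w)) := rfl

theorem fP_oconj (s : F ≃+* F) (u : V8 F) : fP s (oconj u) = oconj (fP s u) := by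
  apply ext8 <;> first | rfl | exact map_neg s _

theorem norm_fP (s : F ≃+* F) (u : V8 F) : plusForm 4 F (fP s u) = s (plusForm 4 F u) := by
  rw [(isSS_fP s).form, one_mul]

/-- `dia (fG s)` is a twisted symmetric composition. -/
theorem tcd {s : F ≃+* F} (h3 : ∀ a, s (s (s a)) = a) : TC (plusForm 4 F) s (dia (fG s)) := by
  have hss : ∀ a, s.symm (s.symm a) = s a := fun a => by
    rw [RingEquiv.symm_apply_eq, RingEquiv.symm_apply_eq, h3]
  have hs2 : ∀ a, s (s a) = s.symm a := fun a => by rw [RingEquiv.eq_symm_apply, h3]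
  have f1 : ∀ x : V8 F, fP s.symm (fP s.symm x) = fP s x := fun x => funext fun i => hss _
  have f2 : ∀ x : V8 F, fP s (fP s x) = fP s.symm x := fun x => funext fun i => hs2 _
  have f3 : ∀ x : V8 F, fP s (fP s.symm x) = x := fun x => funext fun i => s.apply_symm_apply _
  have f4 : ∀ x : V8 F, fP s.symm (fP s x) = x := fun x => funext fun i => s.symm_apply_apply _
  have i1 := isSS_fP s
  have i2 := isSS_fP s.symm
  have o1 : ∀ x y : V8 F, oconj (x + y) = oconj x + oconj y := fun x y => by coord8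
  have o2 : ∀ (k : F) (x : V8 F), oconj (k • x) = k • oconj x := fun k x => by coord8
  refine ⟨fun a b c => ?_, fun a b c => ?_, fun k a b => ?_, fun k a b => ?_, fun a b => ?_, fun a b => ?_, h3⟩
  · rw [dia_fG, dia_fG, dia_fG, o1, i2.add, add_omul]
  · rw [dia_fG, dia_fG, dia_fG, o1, i1.add, omul_add]
  · rw [dia_fG, dia_fG, o2, i2.smul, smul_omul]
  · rw [dia_fG, dia_fG, o2, i1.smul, omul_smul]
  · simp only [dia_fG, oconj_omul, fP_omul, fP_oconj, oconj_oconj, f1, f4, omul_omul_oconj, norm_fP]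
  · simp only [dia_fG, oconj_omul, fP_omul, fP_oconj, oconj_oconj, f2, f3, oconj_omul_omul, norm_fP]

end tw

/-! ### Base change -/

section base

variable {F E : Type} [Field F] [Field E] (i : F →+* E)

/-- Base change of vectors. -/
def bc (x : V8 F) : V8 E := fun k => i (x k)

theorem bc_omul (x y : V8 F) : bc i (omul x y) = omul (bc i x) (bc i y) := by
  apply ext8 <;>
  · change i _ = _
    simp only [omul_l0, omul_l1, omul_l2, omul_l3, omul_r0, omul_r1, omul_r2, omul_r3, map_add,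
      map_sub, map_mul]
    rfl

theorem bc_oconj (x : V8 F) : bc i (oconj x) = oconj (bc i x) := by
  apply ext8 <;> first | rfl | exact map_neg i _

theorem bc_fP {s : F ≃+* F} {s' : E ≃+* E} (h : ∀ a, i (s a) = s' (i a)) (x : V8 F) :
    bc i (fP s x) = fP s' (bc i x) := funext fun _ => h _

theorem bc_dia {s : F ≃+* F} {s' : E ≃+* E} (h : ∀ a, i (s a) = s' (i a)) (u w : V8 F) :
    bc i (dia (fG s) u w) = dia (fG s') (bc i u) (bc i w) := by
  have h' : ∀ a, i (s.symm a) = s'.symm (i a) := fun a => by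
    rw [RingEquiv.eq_symm_apply, ← h, RingEquiv.apply_symm_apply]
  rw [dia_fG, dia_fG, bc_omul, bc_fP i h, bc_fP i h', bc_oconj, bc_oconj]

/-- Base change of linear maps. -/
noncomputable def bl (f : V8 F →ₗ[F] V8 F) : V8 E →ₗ[E] V8 E := Matrix.toLin' ((LinearMap.toMatrix' f).map i)

theorem bl_bc (f : V8 F →ₗ[F] V8 F) (x : V8 F) : bl i f (bc i x) = bc i (f x) := by
  have h1 : f x = (LinearMap.toMatrix' f).mulVec x := by
    rw [← Matrix.toLin'_apply, Matrix.toLin'_toMatrix']
  rw [h1, bl, Matrix.toLin'_apply]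
  funext k
  exact (RingHom.map_mulVec i _ x k).symm

/-- A subspace containing the base changes of all vectors. -/
theorem bc_span (W : Submodule E (V8 E)) (h : ∀ x, bc i x ∈ W) (v : V8 E) : v ∈ W := by
  have h1 : v = ∑ k, v k • bc i (Pi.single k (1 : F)) := by
    funext j
    rw [Finset.sum_apply, Finset.sum_eq_single j]
    · simp [bc]
    · intro k _ hk
      simp [bc, Pi.single_eq_of_ne' hk]
    · intro hj
      exact absurd (Finset.mem_univ j) hj
  rw [h1]
  exact W.sum_mem fun k _ => W.smul_mem _ (h _)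

theorem bl_pow {f : V8 F →ₗ[F] V8 F} {n : ℕ} (h : f ^ n = 1) : bl i f ^ n = 1 := by
  have h1 : ∀ (n : ℕ) (x : V8 F), (bl i f ^ n) (bc i x) = bc i ((f ^ n) x) := by
    intro n
    induction n with
    | zero => intro x; rfl
    | succ n ih =>
      intro x
      rw [pow_succ, pow_succ]
      change (bl i f ^ n) (bl i f (bc i x)) = bc i ((f ^ n) (f x))
      rw [bl_bc, ih]
  apply LinearMap.ext
  intro v
  exact bc_span i (LinearMap.eqLocus (bl i f ^ n) 1) (fun x => by
    change (bl i f ^ n) (bc i x) = bc i x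
    rw [h1, h]
    rfl) v

theorem bl_fix {f : V8 F →ₗ[F] V8 F} (h : ∀ v, f v = v → v = 0) (v : V8 E) (hv : bl i f v = v) : v = 0 := by
  by_contra hv0
  set A := LinearMap.toMatrix' f - 1 with hA
  have h1 : (A.map i).mulVec v = 0 := by
    have e : A.map i = (LinearMap.toMatrix' f).map i - 1 := by
      rw [hA]
      ext a b
      simp [Matrix.one_apply, apply_ite i]
    rw [e, Matrix.sub_mulVec, Matrix.one_mulVec, sub_eq_zero]
    rw [bl, Matrix.toLin'_apply] at hv
    exact hv
  have h2 : (A.map i).det = 0 := Matrix.exists_mulVec_eq_zero_iff.1 ⟨v, hv0, h1⟩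
  have h3 : A.det = 0 := by
    have e : i A.det = (A.map i).det := RingHom.map_det i A
    rw [h2] at e
    exact (map_eq_zero i).1 e
  obtain ⟨x, hx0, hx⟩ := Matrix.exists_mulVec_eq_zero_iff.2 h3
  apply hx0
  apply h
  rw [hA, Matrix.sub_mulVec, Matrix.one_mulVec, sub_eq_zero, ← Matrix.toLin'_apply, Matrix.toLin'_toMatrix'] at hx
  exact hx

theorem bl_mul {s : F ≃+* F} {s' : E ≃+* E} (h : ∀ a, i (s a) = s' (i a)) (h3 : ∀ a, s' (s' (s' a)) = a)
    {f : V8 F →ₗ[F] V8 F} (hf : ∀ u w, f (dia (fG s) u w) = dia (fG s) (f u) (f w)) (u w : V8 E) :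
    bl i f (dia (fG s') u w) = dia (fG s') (bl i f u) (bl i f w) := by
  have hT := tcd h3
  -- left variable
  have h1 : ∀ (y : V8 F) (u : V8 E), bl i f (dia (fG s') u (bc i y)) = dia (fG s') (bl i f u) (bl i f (bc i y)) := by
    intro y
    let W : Submodule E (V8 E) :=
      { carrier := {u | bl i f (dia (fG s') u (bc i y)) = dia (fG s') (bl i f u) (bl i f (bc i y))}
        zero_mem' := by
          change bl i f (dia (fG s') 0 (bc i y)) = dia (fG s') (bl i f 0) (bl i f (bc i y))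
          rw [map_zero, hT.zero_left, hT.zero_left, map_zero]
        add_mem' := by
          intro a b ha hb
          change bl i f (dia (fG s') (a + b) (bc i y)) = dia (fG s') (bl i f (a + b)) (bl i f (bc i y))
          change bl i f (dia (fG s') a (bc i y)) = _ at ha
          change bl i f (dia (fG s') b (bc i y)) = _ at hb
          rw [map_add, hT.add_left, hT.add_left, map_add, ha, hb]
        smul_mem' := by
          intro k a ha
          change bl i f (dia (fG s') (k • a) (bc i y)) = dia (fG s') (bl i f (k • a)) (bl i f (bc i y))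
          change bl i f (dia (fG s') a (bc i y)) = _ at ha
          rw [map_smul, hT.smul_left, hT.smul_left, map_smul, ha] }
    apply bc_span i W
    intro x
    change bl i f (dia (fG s') (bc i x) (bc i y)) = dia (fG s') (bl i f (bc i x)) (bl i f (bc i y))
    rw [← bc_dia i h, bl_bc, bl_bc, bl_bc, ← bc_dia i h, hf]
  let W : Submodule E (V8 E) :=
    { carrier := {w | bl i f (dia (fG s') u w) = dia (fG s') (bl i f u) (bl i f w)}
      zero_mem' := by
        change bl i f (dia (fG s') u 0) = dia (fG s') (bl i f u) (bl i f 0)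
        rw [map_zero, hT.zero_right, hT.zero_right, map_zero]
      add_mem' := by
        intro a b ha hb
        change bl i f (dia (fG s') u (a + b)) = dia (fG s') (bl i f u) (bl i f (a + b))
        change bl i f (dia (fG s') u a) = _ at ha
        change bl i f (dia (fG s') u b) = _ at hb
        rw [map_add, hT.add_right, hT.add_right, map_add, ha, hb]
      smul_mem' := by
        intro k a ha
        change bl i f (dia (fG s') u (k • a)) = dia (fG s') (bl i f u) (bl i f (k • a))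
        change bl i f (dia (fG s') u a) = _ at ha
        rw [map_smul, hT.smul_right, hT.smul_right, map_smul, ha] }
  exact bc_span i W (fun x => h1 x u) w

end base

/-! ### No automorphism without fixed vectors -/

section fin

variable {F : Type} [Field F]

theorem nd8 (E : Type) [Field E] : Nondeg (plusForm 4 E) := fun x hx => polar_plusForm_nondeg 4 x hx

theorem no_fix8 [Finite F] {s : F ≃+* F} (h3 : ∀ a, s (s (s a)) = a) {q0 : ℕ} (hq : Nat.card F = q0 ^ 3)
    {c : V8 F →ₗ[F] V8 F} (hc : ∀ u w, c (dia (fG s) u w) = dia (fG s) (c u) (c w)) {l : ℕ} (hl : l.Prime)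
    (hl2 : l ≠ 2) (h1 : l ∣ q0 ^ 2 + 1) (hcl : c ^ l = 1) (hfix : ∀ v, c v = v → v = 0) : False := by
  obtain ⟨p, hp⟩ := CharP.exists F
  have hpp : p.Prime := CharP.char_is_prime F p
  have : Fact p.Prime := ⟨hpp⟩
  let _ := ZMod.algebra F p
  -- `|F| = p ^ n`, `n = 3 k`
  set n := finrank (ZMod p) F with hn
  have hcard : Nat.card F = p ^ n := by
    rw [Module.natCard_eq_pow_finrank (K := ZMod p) (V := F), Nat.card_zmod]
  obtain ⟨k, -, hk⟩ := (Nat.dvd_prime_pow hpp).1 (Dvd.intro_left (q0 ^ 2) (by rw [← pow_succ, ← hq, hcard]) :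
    q0 ∣ p ^ n)
  have hn3 : n = k * 3 := by
    rw [hk, ← pow_mul] at hq
    exact Nat.pow_right_injective hpp.two_le (hcard.symm.trans hq)
  have hk0 : k ≠ 0 := by
    intro h0
    rw [h0, zero_mul] at hn3
    exact absurd hn3 (Module.finrank_pos (R := ZMod p) (M := F)).ne'
  -- `s = x ^ (p ^ j)`
  let s₁ : F ≃ₐ[ZMod p] F := AlgEquiv.ofRingEquiv (f := s) (fun x => by
    have e : (s : F →+* F).comp (algebraMap (ZMod p) F) = algebraMap (ZMod p) F := Subsingleton.elim _ _
    exact congrArg (fun g : ZMod p →+* F => g x) e)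
  obtain ⟨j, hj⟩ := FiniteField.exists_forall_apply_eq_pow (ZMod p) p F s₁
  rw [Nat.card_zmod] at hj
  have hsj : ∀ x, s x = x ^ p ^ j := hj
  have h3j : ∀ x : F, x ^ p ^ (3 * j) = x := by
    intro x
    have e := h3 x
    rw [hsj, hsj, hsj, ← pow_mul, ← pow_mul, ← pow_add, ← pow_add] at e
    have e2 : 3 * j = j + (j + j) := by ring
    rw [e2]
    exact e
  have hnj : n ∣ 3 * j := by
    rw [hn, ← FiniteField.orderOf_frobeniusAlgEquivOfAlgebraic (ZMod p) F]
    apply orderOf_dvd_of_pow_eq_one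
    apply AlgEquiv.ext
    intro x
    rw [AlgEquiv.coe_pow, FiniteField.coe_frobeniusAlgEquivOfAlgebraic_iterate, ZMod.card]
    exact h3j x
  obtain ⟨t, ht⟩ : k ∣ j := by
    rw [hn3, mul_comm 3 j] at hnj
    exact (Nat.mul_dvd_mul_iff_right (by norm_num)).1 hnj
  -- `l` is not the characteristic
  have hlp : l ≠ p := by
    rintro rfl
    have e1 : l ∣ q0 ^ 2 := by
      rw [hk, ← pow_mul]
      exact dvd_pow_self l (mul_ne_zero hk0 two_ne_zero)
    exact hl.one_lt.ne' (Nat.dvd_one.1 ((Nat.dvd_add_right e1).1 h1))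
  have h4 : l ∣ q0 ^ 4 - 1 := by
    have e : q0 ^ 4 - 1 = (q0 ^ 2 + 1) * (q0 ^ 2 - 1) := by
      rw [← Nat.sq_sub_sq, ← pow_mul]
    rw [e]
    exact Dvd.dvd.mul_right h1 _
  have hq0 : 0 < q0 := by
    rw [hk]
    exact pow_pos hpp.pos k
  -- the extension of degree four
  let E := FiniteField.Extension F p 4
  have : CharP E p := charP_of_injective_algebraMap (algebraMap F E).injective p
  have : ExpChar E p := ExpChar.prime hpp
  let i : F →+* E := algebraMap F E
  have hE : Nat.card E = p ^ (n * 4) := by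
    rw [FiniteField.natCard_extension, hcard, pow_mul]
  let s' : E ≃+* E := iterateFrobeniusEquiv E p (4 * j)
  have hs' : ∀ x, s' x = x ^ p ^ (4 * j) := fun x => rfl
  have hi : ∀ a, i (s a) = s' (i a) := by
    intro a
    rw [hs', ← map_pow, hsj]
    have e : 4 * j = 3 * j + j := by ring
    rw [e, pow_add, pow_mul, h3j]
  have h3' : ∀ a, s' (s' (s' a)) = a := by
    intro a
    rw [hs', hs', hs', ← pow_mul, ← pow_mul, ← pow_add, ← pow_add]
    obtain ⟨r, hr⟩ := hnj
    have e : 4 * j + (4 * j + 4 * j) = (n * 4) * r := by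
      calc 4 * j + (4 * j + 4 * j) = 4 * (3 * j) := by ring
        _ = 4 * (n * r) := by rw [hr]
        _ = _ := by ring
    rw [e, pow_mul, ← hE]
    have := Fintype.ofFinite E
    rw [Nat.card_eq_fintype_card]
    exact FiniteField.pow_card_pow r a
  -- the root of unity
  have : Fact l.Prime := ⟨hl⟩
  have hlE : l ∣ Nat.card Eˣ := by
    have e0 : p ^ (k * 3 * 4) = (q0 ^ 4) ^ 3 := by
      rw [hk]
      ring
    rw [Nat.card_units, hE, hn3, e0]
    have e : q0 ^ 4 - 1 ∣ (q0 ^ 4) ^ 3 - 1 := by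
      simpa using Nat.sub_dvd_pow_sub_pow (q0 ^ 4) 1 3
    exact h4.trans e
  obtain ⟨z, hz⟩ := exists_prime_orderOf_dvd_card' l hlE
  have hzp : IsPrimitiveRoot (z : E) l := by
    have e := IsPrimitiveRoot.orderOf z
    rw [hz] at e
    exact IsPrimitiveRoot.coe_units_iff.2 e
  have hz4 : (z : E) ^ q0 ^ 4 = z := by
    obtain ⟨r, hr⟩ := h4
    have e : q0 ^ 4 = l * r + 1 := by
      have := pow_pos hq0 4
      omega
    rw [e, pow_succ, pow_mul, hzp.pow_eq_one, one_pow, one_mul]
  have hsz : s' (z : E) = z := by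
    rw [hs', ht]
    have e : p ^ (4 * (k * t)) = (q0 ^ 4) ^ t := by
      rw [hk]
      ring
    rw [e]
    clear e ht
    induction t with
    | zero => simp
    | succ t ih => rw [pow_succ, pow_mul, ih, hz4]
  have hlK : (l : E) ≠ 0 := by
    intro h0
    have e := (CharP.cast_eq_zero_iff E p l).1 h0
    exact hlp ((Nat.prime_dvd_prime_iff_eq hpp hl).1 e).symm
  have key := no_fix (nd8 E) hl hl2 (ne_three h1) hlK (tcd h3') (bl_mul i hi h3' hc) (bl_pow i hcl) hzp hsz
    (bl_fix i hfix)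
  have h5 := norm_one8 (F := E)
  rw [key (one8 E), QuadraticMap.map_zero] at h5
  exact zero_ne_one h5

theorem l_ne [Finite F] {q0 : ℕ} (hq : Nat.card F = q0 ^ 3) {l : ℕ} (h1 : l ∣ q0 ^ 2 + 1) : (l : F) ≠ 0 := by
  intro h0
  have e1 : (q0 : F) ^ 3 = 0 := by
    have := Fintype.ofFinite F
    rw [← Nat.cast_pow, ← hq, Nat.card_eq_fintype_card]
    exact FiniteField.cast_card_eq_zero F
  have e2 : (q0 : F) = 0 := pow_eq_zero_iff (by norm_num) |>.1 e1
  obtain ⟨r, hr⟩ := h1
  have e3 := congrArg (Nat.cast (R := F)) hr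
  push_cast at e3
  rw [e2, h0] at e3
  simp at e3

theorem card_mod {α : Type*} [Fintype α] {l : ℕ} [Fact l.Prime] {g : α → α} (hg : g^[l] = id) (a₀ : α)
    (h : ∀ a, g a = a ↔ a = a₀) : Fintype.card α ≡ 1 [MOD l] := by
  classical
  let g' : Function.End α := g
  have hg' : g' ^ l ^ 1 = 1 := by
    rw [pow_one]
    have e : ∀ n : ℕ, (g' ^ n : Function.End α) = (g^[n] : α → α) := by
      intro n
      induction n with
      | zero => rfl
      | succ n ih => rw [pow_succ, ih, Function.iterate_succ]; rfl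
    rw [e, hg]
    rfl
  have h3 := Equiv.Perm.card_fixedPoints_modEq (p := l) (n := 1) hg'
  have h4 : Fintype.card (Function.fixedPoints g') = 1 := by
    rw [Fintype.card_eq_one_iff]
    refine ⟨⟨a₀, (h a₀).2 rfl⟩, ?_⟩
    rintro ⟨v, hv⟩
    exact Subtype.ext ((h v).1 hv)
  rw [h4] at h3
  exact h3

/-- invariant subspaces without fixed vectors -/
theorem four_dvd_finrank [Finite F] {q0 : ℕ} (hq : Nat.card F = q0 ^ 3) {l : ℕ} (hl : l.Prime)
    (hl2 : l ≠ 2) (h1 : l ∣ q0 ^ 2 + 1) {f : V8 F →ₗ[F] V8 F} (hf : f ^ l = 1) (W : Submodule F (V8 F))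
    (hW : ∀ v ∈ W, f v ∈ W) (h0 : ∀ v ∈ W, f v = v → v = 0) : 4 ∣ finrank F W := by
  have : Fact l.Prime := ⟨hl⟩
  let g : W →ₗ[F] W := f.restrict hW
  have hg : (g : W → W)^[l] = id := by
    have h2 : ∀ (n : ℕ) (v : W), (((g : W → W)^[n] v : W) : V8 F) = (f ^ n) v := by
      intro n
      induction n with
      | zero => intro v; rfl
      | succ n ih =>
        intro v
        rw [Function.iterate_succ_apply, ih, pow_succ]
        rfl
    funext v
    apply Subtype.ext
    rw [h2, hf]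
    rfl
  have : Fintype W := Fintype.ofFinite W
  have h2 : Fintype.card W ≡ 1 [MOD l] := by
    refine card_mod hg 0 (fun a => ⟨fun ha => ?_, fun ha => ?_⟩)
    · exact Subtype.ext (h0 a a.2 (congrArg Subtype.val ha))
    · rw [ha, map_zero]
  have h3 : Fintype.card W = q0 ^ (3 * finrank F W) := by
    rw [← Nat.card_eq_fintype_card, Module.natCard_eq_pow_finrank (K := F) (V := W), hq, pow_mul]
  rw [h3, ← ZMod.natCast_eq_natCast_iff] at h2
  push_cast at h2
  have h4 := four_dvd hl hl2 h1 h2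
  exact (Nat.Coprime.dvd_mul_left (by norm_num : Nat.Coprime 4 3)).1 h4

theorem ZN4 [Finite F] {s : F ≃+* F} (h3 : ∀ a, s (s (s a)) = a) (hne : s ≠ RingEquiv.refl F) {q0 : ℕ}
    (hq : Nat.card F = q0 ^ 3) {c : V8 F ≃ₗ[F] V8 F} (hc : c ∈ AutD (fG s)) {l : ℕ} (hl : l.Prime)
    (hl2 : l ≠ 2) (h1 : l ∣ q0 ^ 2 + 1) (hcl : c ^ l = 1) : c = 1 := by
  by_contra hc1
  have _ := hne
  have hT := tcd h3
  have hlF := l_ne (F := F) hq h1
  set f : V8 F →ₗ[F] V8 F := c.toLinearMap with hf
  have hfc : ∀ v, f v = c v := fun v => rfl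
  have hfl : f ^ l = 1 := by
    have e : ∀ (n : ℕ) (v : V8 F), (f ^ n) v = (c ^ n : V8 F ≃ₗ[F] V8 F) v := by
      intro n
      induction n with
      | zero => intro v; rfl
      | succ n ih =>
        intro v
        rw [pow_succ, pow_succ]
        exact ih (c v)
    apply LinearMap.ext
    intro v
    rw [e, hcl]
    rfl
  have hmul : ∀ u w, f (dia (fG s) u w) = dia (fG s) (f u) (f w) := hc.2
  have hO : ∀ v, plusForm 4 F (f v) = plusForm 4 F v := fun v => mem_O.1 (E_le_O hc.1) v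
  have hOp : ∀ u v, polar (plusForm 4 F) (f u) (f v) = polar (plusForm 4 F) u v := by
    intro u v
    rw [polar, polar, ← map_add, hO, hO, hO]
  -- a fixed vector
  obtain ⟨v₀, hv₀, hv₀0⟩ : ∃ v, f v = v ∧ v ≠ 0 := by
    by_contra hno
    push Not at hno
    exact no_fix8 h3 hq hmul hl hl2 h1 hfl hno
  set K := LinearMap.ker (f - 1) with hK
  set U := LinearMap.range (f - 1) with hU
  have memK : ∀ v, v ∈ K ↔ f v = v := by
    intro v
    rw [hK, LinearMap.mem_ker]
    exact sub_eq_zero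
  have memU : ∀ v, v ∈ U ↔ ∃ y, f y - y = v := fun v => Iff.rfl
  have hUf : ∀ v ∈ U, f v ∈ U := by
    intro v hv
    obtain ⟨y, rfl⟩ := (memU v).1 hv
    exact (memU _).2 ⟨f y, by rw [map_sub]⟩
  have hUK : ∀ v ∈ U, f v = v → v = 0 := by
    intro v hv hfv
    obtain ⟨y, hy⟩ := (memU v).1 hv
    have hy' : f y = y + v := by rw [← hy]; abel
    have e : ∀ n : ℕ, (f ^ n) y = y + (n : F) • v := by
      intro n
      induction n with
      | zero => simp
      | succ n ih =>
        rw [pow_succ']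
        change f ((f ^ n) y) = _
        rw [ih, map_add, map_smul, hfv, hy', Nat.cast_succ, add_smul, one_smul]
        abel
    have e2 := e l
    rw [hfl] at e2
    have e3 : (l : F) • v = 0 := by
      have e4 : y + 0 = y + (l : F) • v := by rw [add_zero]; exact e2
      exact (add_left_cancel e4).symm
    exact (smul_eq_zero.1 e3).resolve_left hlF
  have hd : Disjoint U K := by
    rw [Submodule.disjoint_def]
    intro v hv hv'
    exact hUK v hv ((memK v).1 hv')
  have hdim := LinearMap.finrank_range_add_finrank_ker (f - 1)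
  rw [← hU, ← hK] at hdim
  have h8 : finrank F (V8 F) = 8 := by simp
  have htop : U ⊔ K = ⊤ := Submodule.eq_top_of_disjoint U K hdim.ge hd
  rw [h8] at hdim
  have hU0 : U ≠ ⊥ := by
    intro h0
    apply hc1
    apply LinearEquiv.ext
    intro v
    have e : f v - v ∈ U := (memU _).2 ⟨v, rfl⟩
    rw [h0, Submodule.mem_bot, sub_eq_zero] at e
    exact e
  have hK0 : K ≠ ⊥ := by
    intro h0
    have e : v₀ ∈ K := (memK _).2 hv₀
    rw [h0, Submodule.mem_bot] at e
    exact hv₀0 e
  have hUpos : 0 < finrank F U := by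
    rw [Nat.pos_iff_ne_zero, Ne, Submodule.finrank_eq_zero]
    exact hU0
  have hKpos : 0 < finrank F K := by
    rw [Nat.pos_iff_ne_zero, Ne, Submodule.finrank_eq_zero]
    exact hK0
  have hU4 := four_dvd_finrank hq hl hl2 h1 hfl U hUf hUK
  have hU4' : finrank F U = 4 := by omega
  have hK4 : finrank F K = 4 := by omega
  -- a nonsingular vector of `U`
  obtain ⟨x, hxU, hQx⟩ : ∃ x ∈ U, plusForm 4 F x ≠ 0 := by
    by_contra hno
    push Not at hno
    obtain ⟨x, hx, hx0⟩ := (Submodule.ne_bot_iff U).1 hU0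
    obtain ⟨y, hy⟩ := (nd8 F).exists_polar_ne hx0
    have hyt : y ∈ U ⊔ K := by rw [htop]; exact Submodule.mem_top
    obtain ⟨a, ha, b, hb, rfl⟩ := Submodule.mem_sup.1 hyt
    apply hy
    rw [polar_add_right]
    have e1 : polar (plusForm 4 F) x a = 0 := by
      rw [polar, hno _ (U.add_mem hx ha), hno _ hx, hno _ ha]
      ring
    have e2 : polar (plusForm 4 F) x b = 0 := by
      obtain ⟨y, rfl⟩ := (memU x).1 hx
      have e3 := hOp y b
      rw [(memK b).1 hb] at e3
      rw [sub_eq_add_neg, polar_add_left, polar_neg_left, e3, add_neg_cancel]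
    rw [e1, e2, add_zero]
  -- a singular fixed vector
  obtain ⟨w, hwK, hw0, hQw⟩ := exists_sing_mem (Q := plusForm 4 F) K (show 3 ≤ finrank F K by omega)
  have hfw : f w = w := (memK w).1 hwK
  have hLf : ∀ y, f (dia (fG s) w y) = dia (fG s) w (f y) := fun y => by rw [hmul, hfw]
  have hLU : ∀ y ∈ U, dia (fG s) w y ∈ U := by
    intro y hy
    obtain ⟨y', rfl⟩ := (memU y).1 hy
    refine (memU _).2 ⟨dia (fG s) w y', ?_⟩
    rw [hLf, sub_eq_add_neg, sub_eq_add_neg, hT.add_right, hT.neg_right]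
  let K' : Submodule F (V8 F) :=
    { carrier := {y | y ∈ U ∧ dia (fG s) w y = 0}
      zero_mem' := ⟨U.zero_mem, hT.zero_right w⟩
      add_mem' := by
        rintro a b ⟨ha, ha'⟩ ⟨hb, hb'⟩
        exact ⟨U.add_mem ha hb, by rw [hT.add_right, ha', hb', add_zero]⟩
      smul_mem' := by
        rintro k a ⟨ha, ha'⟩
        exact ⟨U.smul_mem k ha, by rw [hT.smul_right, ha', smul_zero]⟩ }
  have memK' : ∀ y, y ∈ K' ↔ y ∈ U ∧ dia (fG s) w y = 0 := fun y => Iff.rfl
  have hK'U : K' ≤ U := fun y hy => hy.1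
  have hK'4 := four_dvd_finrank hq hl hl2 h1 hfl K'
    (fun y hy => ⟨hUf y hy.1, by rw [← hLf, hy.2, map_zero]⟩) (fun y hy => hUK y hy.1)
  have hle : finrank F K' ≤ 4 := (Submodule.finrank_mono hK'U).trans hU4'.le
  rcases Nat.eq_zero_or_pos (finrank F K') with h0 | h0
  · -- `w ⋄ ·` is injective on `U`
    rw [Submodule.finrank_eq_zero] at h0
    let L : U → U := fun y => ⟨dia (fG s) w y, hLU y y.2⟩
    have hinj : Function.Injective L := by
      intro a b hab
      have e : dia (fG s) w (a : V8 F) = dia (fG s) w b := congrArg Subtype.val hab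
      have e2 : (a : V8 F) - b ∈ K' := by
        refine ⟨U.sub_mem a.2 b.2, ?_⟩
        rw [sub_eq_add_neg, hT.add_right, hT.neg_right, e, add_neg_cancel]
      rw [h0, Submodule.mem_bot, sub_eq_zero] at e2
      exact Subtype.ext e2
    obtain ⟨y, hy⟩ := (Finite.injective_iff_surjective.1 hinj) ⟨x, hxU⟩
    have hy' : dia (fG s) w (y : V8 F) = x := congrArg Subtype.val hy
    have e1 := hT.left w (y : V8 F)
    rw [hQw, map_zero, zero_smul, hy'] at e1
    have e2 := hT.left x w
    rw [e1, hT.zero_left] at e2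
    exact hw0 ((smul_eq_zero.1 e2.symm).resolve_left (fun e3 => hQx ((map_eq_zero s).1 e3)))
  · have e4 : finrank F K' = finrank F U := by omega
    have e5 : K' = U := Submodule.eq_of_le_of_finrank_eq hK'U e4
    have e6 : x ∈ K' := by rw [e5]; exact hxU
    have e2 := hT.right x w
    rw [e6.2, hT.zero_right] at e2
    exact hw0 ((smul_eq_zero.1 e2.symm).resolve_left (fun e3 => hQx ((map_eq_zero s.symm).1 e3)))

end fin

end Cfsg.Agent.H65.RC
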